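import Groth.Agent.L22.Big.Basic
import Groth.Agent.L16.Rees.RelVanish
import Groth.Agent.L26.AV.InterPic

/-!
The cohomology of twists grows at most as the dimension of the support.
-/

set_option autoImplicit false
set_option backward.isDefEq.respectTransparency false
set_option linter.style.haveILetI false
set_option linter.unusedSectionVars false
universe u

open CategoryTheory CategoryTheory.Limits AlgebraicGeometry TopologicalSpace

noncomputable section

namespace Groth.Agent.L26.Growth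

open Groth.L22.Inter Groth.L03.Euler Groth.L16 Groth.L22.Big
open Groth.L00.Tensor (tensorIso tensorAssoc tensorComm tensorUnitRight tensorUnitLeft tensorRightF)

variable (k : Type u) [Field k] {X : Scheme.{u}} [X.Over (Spec (CommRingCat.of k))]

/-- The dimension of cohomology. -/
abbrev hd (M : X.Modules) (j : ℕ) : ℕ := Module.finrank k (Coh.HH X M j)

variable [IsProper (X ↘ Spec (CommRingCat.of k))] {S : ShortComplex X.Modules} (hS : S.ShortExact)

include hS

theorem le_middle (h₁ : Coh.IsCoh S.X₁) (h₂ : Coh.IsCoh S.X₂) (h₃ : Coh.IsCoh S.X₃) (j : ℕ) :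
    hd k S.X₂ j ≤ hd k S.X₁ j + hd k S.X₃ j := by
  haveI := Groth.L21.RR.isNoetherian_of_proper (X := X) k
  haveI := ProperFinite.finite_HH k h₁ j
  haveI := ProperFinite.finite_HH k h₂ j
  haveI := ProperFinite.finite_HH k h₃ j
  refine (finrank_eq_add (CohLinear.overLin k (CohLinear.hmap S.f j))
    (CohLinear.overLin k (CohLinear.hmap S.g j)) (CohLinear.exact_hmap_hmap hS j)).trans_le ?_
  exact Nat.add_le_add (LinearMap.finrank_range_le _) (Submodule.finrank_le _)

theorem le_left (h₁ : Coh.IsCoh S.X₁) (h₂ : Coh.IsCoh S.X₂) (h₃ : Coh.IsCoh S.X₃) (j : ℕ) :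
    hd k S.X₁ (j + 1) ≤ hd k S.X₃ j + hd k S.X₂ (j + 1) := by
  haveI := Groth.L21.RR.isNoetherian_of_proper (X := X) k
  haveI := ProperFinite.finite_HH k h₁ (j + 1)
  haveI := ProperFinite.finite_HH k h₂ (j + 1)
  haveI := ProperFinite.finite_HH k h₃ j
  refine (finrank_eq_add (CohLinear.overLin k (CohLinear.delta hS j))
    (CohLinear.overLin k (CohLinear.hmap S.f (j + 1))) (CohLinear.exact_delta_hmap hS j)).trans_le ?_
  exact Nat.add_le_add (LinearMap.finrank_range_le _) (Submodule.finrank_le _)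

theorem le_right (h₁ : Coh.IsCoh S.X₁) (h₂ : Coh.IsCoh S.X₂) (h₃ : Coh.IsCoh S.X₃) (j : ℕ) :
    hd k S.X₃ j ≤ hd k S.X₂ j + hd k S.X₁ (j + 1) := by
  haveI := Groth.L21.RR.isNoetherian_of_proper (X := X) k
  haveI := ProperFinite.finite_HH k h₁ (j + 1)
  haveI := ProperFinite.finite_HH k h₂ j
  haveI := ProperFinite.finite_HH k h₃ j
  refine (finrank_eq_add (CohLinear.overLin k (CohLinear.hmap S.g j))
    (CohLinear.overLin k (CohLinear.delta hS j)) (CohLinear.exact_hmap_delta hS j)).trans_le ?_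
  exact Nat.add_le_add (LinearMap.finrank_range_le _) (Submodule.finrank_le _)

theorem le_left_zero (h₂ : Coh.IsCoh S.X₂) : hd k S.X₁ 0 ≤ hd k S.X₂ 0 := by
  have h := h0_le_of_shortExact k hS h₂
  rwa [h0_def, h0_def] at h

end Groth.Agent.L26.Growth

namespace Groth.Agent.L26.Growth

open Groth.L22.Inter Groth.L03.Euler Groth.L16 Groth.L22.Big
open Groth.L00.Tensor (tensorIso tensorAssoc tensorComm tensorUnitRight tensorUnitLeft tensorRightF)

attribute [local instance] Groth.L08.Cube.clMonoid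

variable (k : Type u) [Field k] {X : Scheme.{u}} [X.Over (Spec (CommRingCat.of k))]

/-- A product of powers. -/
abbrev pows {r : ℕ} (L : Fin r → X.Modules) (n : Fin r → ℕ) : X.Modules :=
  Curv2.tensorPows (Coh.structureModule X) r L n

/-- The cohomology of the twists of a module grows at most as the `d`-th power. -/
def Bdd {r : ℕ} (L : Fin r → X.Modules) (F : X.Modules) (d : ℕ) : Prop :=
  ∀ j, ∃ C : ℕ, ∀ n : Fin r → ℕ, hd k (CohB1.tensorMod F (pows L n)) j ≤ C * (∑ i, n i + 1) ^ d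

variable {k}

theorem Bdd.mono {r : ℕ} {L : Fin r → X.Modules} {F : X.Modules} {d e : ℕ} (h : Bdd k L F d) (hde : d ≤ e) :
    Bdd k L F e := fun j => by
  obtain ⟨C, hC⟩ := h j
  exact ⟨C, fun n => (hC n).trans (Nat.mul_le_mul_left _ (Nat.pow_le_pow_right (Nat.succ_pos _) hde))⟩

theorem Bdd.of_iso {r : ℕ} {L : Fin r → X.Modules} {F G : X.Modules} {d : ℕ} (h : Bdd k L F d) (e : F ≅ G) :
    Bdd k L G d := fun j => by
  obtain ⟨C, hC⟩ := h j
  exact ⟨C, fun n => (finrank_HH_of_iso (tensorIso e.symm (Iso.refl _)) j).trans_le (hC n)⟩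

/-- Raising one exponent. -/
theorem nonempty_pows_succ {r : ℕ} (L : Fin r → X.Modules) (m n : Fin r → ℕ) (l : Fin r)
    (hn : n = Function.update m l (m l + 1)) :
    Nonempty (CohB1.tensorMod (pows L m) (L l) ≅ pows L n) := by
  classical
  refine (PicGrp.cl_eq_cl_iff _ _).1 ?_
  show PicF.cl (pows L m) * PicF.cl (L l) = _
  rw [Groth.Agent.AV.InterPic.cl_tensorPows, Groth.Agent.AV.InterPic.cl_tensorPows, hn,
    ← Finset.mul_prod_erase _ _ (Finset.mem_univ l), ← Finset.mul_prod_erase _ _ (Finset.mem_univ l),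
    Function.update_self, pow_succ, mul_right_comm]
  refine congrArg _ (Finset.prod_congr rfl fun i hi => ?_)
  rw [Function.update_of_ne (Finset.ne_of_mem_erase hi)]

variable [IsProper (X ↘ Spec (CommRingCat.of k))]

theorem bdd_of_isZero {r : ℕ} (L : Fin r → X.Modules) {F : X.Modules} (h : IsZero F) (d : ℕ) : Bdd k L F d :=
  fun j => ⟨0, fun n => by
    haveI : Subsingleton (Coh.HH X (CohB1.tensorMod F (pows L n)) j) :=
      subsingleton_HH_of_isZero ((tensorRightF (pows L n)).map_isZero h) j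
    exact (Module.finrank_zero_of_subsingleton (R := k)).le.trans (Nat.zero_le _)⟩

/-- An extension. -/
theorem Bdd.middle {r : ℕ} {L : Fin r → X.Modules} (hL : ∀ i, PicF.IsInvertible (L i)) {S : ShortComplex X.Modules}
    (hS : S.ShortExact) (h₁ : Coh.IsCoh S.X₁) (h₂ : Coh.IsCoh S.X₂) (h₃ : Coh.IsCoh S.X₃) {d : ℕ}
    (b₁ : Bdd k L S.X₁ d) (b₃ : Bdd k L S.X₃ d) : Bdd k L S.X₂ d := fun j => by
  haveI := Groth.L21.RR.isNoetherian_of_proper (X := X) k
  obtain ⟨C₁, hC₁⟩ := b₁ j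
  obtain ⟨C₃, hC₃⟩ := b₃ j
  refine ⟨C₁ + C₃, fun n => ?_⟩
  have hP := isInvertible_tensorPows hL n
  rw [Nat.add_mul]
  exact (le_middle k (shortExact_tensor hP hS) (isCoh_tensor hP h₁) (isCoh_tensor hP h₂) (isCoh_tensor hP h₃) j).trans
    (Nat.add_le_add (hC₁ n) (hC₃ n))

/-- A submodule. -/
theorem Bdd.left {r : ℕ} {L : Fin r → X.Modules} (hL : ∀ i, PicF.IsInvertible (L i)) {S : ShortComplex X.Modules}
    (hS : S.ShortExact) (h₁ : Coh.IsCoh S.X₁) (h₂ : Coh.IsCoh S.X₂) (h₃ : Coh.IsCoh S.X₃) {d : ℕ}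
    (b₂ : Bdd k L S.X₂ d) (b₃ : Bdd k L S.X₃ d) : Bdd k L S.X₁ d := fun j => by
  haveI := Groth.L21.RR.isNoetherian_of_proper (X := X) k
  obtain ⟨C₂, hC₂⟩ := b₂ j
  rcases j with _ | j
  · exact ⟨C₂, fun n => (le_left_zero k (shortExact_tensor (isInvertible_tensorPows hL n) hS)
      (isCoh_tensor (isInvertible_tensorPows hL n) h₂)).trans (hC₂ n)⟩
  obtain ⟨C₃, hC₃⟩ := b₃ j
  refine ⟨C₃ + C₂, fun n => ?_⟩
  have hP := isInvertible_tensorPows hL n
  rw [Nat.add_mul]
  exact (le_left k (shortExact_tensor hP hS) (isCoh_tensor hP h₁) (isCoh_tensor hP h₂) (isCoh_tensor hP h₃) j).trans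
    (Nat.add_le_add (hC₃ n) (hC₂ n))

omit [X.Over (Spec (CommRingCat.of k))] [IsProper (X ↘ Spec (CommRingCat.of k))] in
theorem ne_zero_of_mem_genLocus [IsIntegral X] [IsNoetherian X] {N : X.Modules} {s : Coh.structureModule X ⟶ N}
    (hs : genericPoint X ∈ CohB1.genLocus N s) : s ≠ 0 := by
  intro h0
  have hb := bijective_stalk_section s hs
  rw [h0, Functor.map_zero] at hb
  have hlen := (CohSupport.len_eq_zero_iff (genericPoint X) (Coh.structureModule X)).not.1
    (by rw [Groth.L22.Nakai.len_structure']; exact one_ne_zero)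
  exact hlen fun hsub => hsub ⟨fun a b => hb.1 rfl⟩

set_option maxHeartbeats 800000 in
/-- The increment along one invertible module. -/
theorem step [IsIntegral X] {A : X.Modules} (hA : CohB1.IsAmple A) {r : ℕ} {L : Fin r → X.Modules}
    (hL : ∀ i, PicF.IsInvertible (L i)) {d : ℕ}
    (small : ∀ Q : X.Modules, Coh.IsCoh Q → genericPoint X ∉ CohB1.support Q → Bdd k L Q d) (j : ℕ) (l : Fin r) :
    ∃ C : ℕ, ∀ m n : Fin r → ℕ, n = Function.update m l (m l + 1) →
      hd k (pows L n) j ≤ hd k (pows L m) j + C * ((∑ i, m i + 1) ^ d + (∑ i, n i + 1) ^ d) := by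
  haveI := Groth.L21.RR.isNoetherian_of_proper (X := X) k
  obtain ⟨q₀, hq₀⟩ := Groth.L18.Ample.exists_forall_isGloballyGenerated hA (L l)
    (Groth.L18.Ample.isCoh_of_isInvertible (hL l))
  obtain ⟨q₁, hq₁⟩ := Groth.L18.Ample.exists_forall_isGloballyGenerated hA (Coh.structureModule X)
    CohClosedPush.isCoh_structure
  let B : X.Modules := CohB1.tensorPow A (max q₀ q₁)
  have hB : PicF.IsInvertible B := Groth.L18.Ample.isInvertible_tensorPow hA.1 _
  have hLB := Groth.L18.GenLoc.isInvertible_tensor (hL l) hB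
  have hOB := Groth.L18.GenLoc.isInvertible_tensor (Groth.L18.Ample.isInvertible_structureModule X) hB
  obtain ⟨s, hs⟩ := Groth.L18.Ample.exists_genLocus_mem_of_gg hLB (hq₀ _ (le_max_left _ _)) (genericPoint X)
  obtain ⟨t, ht⟩ := Groth.L18.Ample.exists_genLocus_mem_of_gg hOB (hq₁ _ (le_max_right _ _)) (genericPoint X)
  obtain ⟨Ss, hSs, hs₁, hs₂, hs₃, hs₄⟩ := exists_section_seq k hLB s (ne_zero_of_mem_genLocus hs)
  obtain ⟨St, hSt, ht₁, ht₂, ht₃, ht₄⟩ := exists_section_seq k hOB t (ne_zero_of_mem_genLocus ht)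
  have cs₁ : Coh.IsCoh Ss.X₁ := hs₁ ▸ CohClosedPush.isCoh_structure
  have cs₂ : Coh.IsCoh Ss.X₂ := hs₂ ▸ Groth.L18.Ample.isCoh_of_isInvertible hLB
  have ct₁ : Coh.IsCoh St.X₁ := ht₁ ▸ CohClosedPush.isCoh_structure
  have ct₂ : Coh.IsCoh St.X₂ := ht₂ ▸ Groth.L18.Ample.isCoh_of_isInvertible hOB
  obtain ⟨Cs, hCs⟩ := small _ hs₃ hs₄ j
  have e₁ : ∀ n, hd k (CohB1.tensorMod Ss.X₁ (pows L n)) j = hd k (pows L n) j := fun n =>
    finrank_HH_of_iso (tensorIso (eqToIso hs₁) (Iso.refl _) ≪≫ tensorUnitLeft _) j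
  have e₂ : ∀ n, hd k (CohB1.tensorMod St.X₁ (pows L n)) j = hd k (pows L n) j := fun n =>
    finrank_HH_of_iso (tensorIso (eqToIso ht₁) (Iso.refl _) ≪≫ tensorUnitLeft _) j
  have e₃ : ∀ m n, n = Function.update m l (m l + 1) →
      hd k (CohB1.tensorMod St.X₂ (pows L n)) j = hd k (CohB1.tensorMod Ss.X₂ (pows L m)) j := fun m n hn => by
    obtain ⟨e⟩ := nonempty_pows_succ L m n l hn
    let f₁ : St.X₂ ≅ B := eqToIso ht₂ ≪≫ tensorUnitLeft B
    let f₂ : CohB1.tensorMod (L l) B ≅ Ss.X₂ := eqToIso hs₂.symm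
    let g₁ : CohB1.tensorMod St.X₂ (pows L n) ≅ CohB1.tensorMod B (CohB1.tensorMod (pows L m) (L l)) :=
      tensorIso f₁ e.symm
    let g₂ : CohB1.tensorMod B (CohB1.tensorMod (pows L m) (L l)) ≅ CohB1.tensorMod (pows L m) (CohB1.tensorMod (L l) B) :=
      tensorComm B (CohB1.tensorMod (pows L m) (L l)) ≪≫ tensorAssoc (pows L m) (L l) B
    let g₃ : CohB1.tensorMod (pows L m) (CohB1.tensorMod (L l) B) ≅ CohB1.tensorMod Ss.X₂ (pows L m) :=
      tensorComm (pows L m) (CohB1.tensorMod (L l) B) ≪≫ tensorIso f₂ (Iso.refl (pows L m))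
    exact finrank_HH_of_iso (g₁ ≪≫ g₂ ≪≫ g₃) j
  have key : ∃ Ct : ℕ, ∀ n, hd k (pows L n) j ≤ Ct * (∑ i, n i + 1) ^ d + hd k (CohB1.tensorMod St.X₂ (pows L n)) j := by
    rcases j with _ | j
    · refine ⟨0, fun n => ?_⟩
      have hP : PicF.IsInvertible (pows L n) := isInvertible_tensorPows hL n
      have h := le_left_zero k (S := St.map (tensorRightF (pows L n))) (shortExact_tensor hP hSt)
        (isCoh_tensor hP ct₂)
      have a := e₂ n
      calc hd k (pows L n) 0 = hd k (CohB1.tensorMod St.X₁ (pows L n)) 0 := a.symm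
        _ ≤ hd k (CohB1.tensorMod St.X₂ (pows L n)) 0 := h
        _ ≤ _ := Nat.le_add_left _ _
    · obtain ⟨Ct, hCt⟩ := small _ ht₃ ht₄ j
      refine ⟨Ct, fun n => ?_⟩
      have hP : PicF.IsInvertible (pows L n) := isInvertible_tensorPows hL n
      have h := le_left k (S := St.map (tensorRightF (pows L n))) (shortExact_tensor hP hSt)
        (isCoh_tensor hP ct₁) (isCoh_tensor hP ct₂) (isCoh_tensor hP ht₃) j
      have a := e₂ n
      have b := hCt n
      calc hd k (pows L n) (j + 1) = hd k (CohB1.tensorMod St.X₁ (pows L n)) (j + 1) := a.symm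
        _ ≤ hd k (CohB1.tensorMod St.X₃ (pows L n)) j + hd k (CohB1.tensorMod St.X₂ (pows L n)) (j + 1) := h
        _ ≤ _ := Nat.add_le_add_right b _
  obtain ⟨Ct, hCt⟩ := key
  refine ⟨Cs + Ct, fun m n hn => ?_⟩
  have hP := isInvertible_tensorPows hL m
  have h := le_middle k (S := Ss.map (tensorRightF (pows L m))) (shortExact_tensor hP hSs) (isCoh_tensor hP cs₁)
    (isCoh_tensor hP cs₂) (isCoh_tensor hP hs₃) j
  have arith : ∀ a b x y u v : ℕ, a ≤ Ct * v + x → x ≤ b + y → y ≤ Cs * u → a ≤ b + (Cs + Ct) * (u + v) :=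
    fun a b x y u v p q r => by nlinarith
  exact arith _ _ _ _ _ _ (hCt n) ((e₃ m n hn).trans_le (h.trans (Nat.add_le_add_right (e₁ m).le _))) (hCs m)

/-- The structure module of an integral scheme. -/
theorem bdd_structure [IsIntegral X] {A : X.Modules} (hA : CohB1.IsAmple A) {r : ℕ} {L : Fin r → X.Modules}
    (hL : ∀ i, PicF.IsInvertible (L i)) {d : ℕ}
    (small : ∀ Q : X.Modules, Coh.IsCoh Q → genericPoint X ∉ CohB1.support Q → Bdd k L Q d) :
    Bdd k L (Coh.structureModule X) (d + 1) := fun j => by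
  classical
  choose C hC using step hA hL small j
  let K := 2 * ∑ l, C l
  refine ⟨hd k (pows L (0 : Fin r → ℕ)) j + K, fun n => (finrank_HH_of_iso (tensorUnitLeft _) j).trans_le ?_⟩
  suffices ∀ s, ∀ n : Fin r → ℕ, ∑ i, n i = s →
      hd k (pows L n) j ≤ hd k (pows L (0 : Fin r → ℕ)) j + s * (K * (s + 1) ^ d) by
    refine (this _ n rfl).trans ?_
    generalize ∑ i, n i = s
    rw [pow_succ, Nat.add_mul]
    refine Nat.add_le_add (Nat.le_mul_of_pos_right _ (Nat.mul_pos (Nat.pow_pos s.succ_pos) s.succ_pos)) ?_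
    nlinarith [Nat.zero_le (K * (s + 1) ^ d)]
  intro s
  induction s with
  | zero =>
    intro n hn
    rw [show n = 0 from funext fun i => by
      simpa using (Finset.sum_eq_zero_iff.1 hn) i (Finset.mem_univ i)]
    exact Nat.le_add_right _ _
  | succ s ih =>
    intro n hn
    obtain ⟨l, hl⟩ : ∃ l, 0 < n l := by
      by_contra hh
      simp only [not_exists, not_lt, Nat.le_zero] at hh
      simp [hh] at hn
    let m := Function.update n l (n l - 1)
    have hnm : n = Function.update m l (m l + 1) := by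
      simp only [m, Function.update_self, Function.update_idem, Nat.sub_add_cancel hl]
      exact (Function.update_eq_self l n).symm
    have hm : ∑ i, m i = s := by
      have h1 := Finset.sum_update_of_mem (Finset.mem_univ l) m (m l + 1)
      have h2 := Finset.add_sum_erase Finset.univ m (Finset.mem_univ l)
      rw [← hnm, ← Finset.erase_eq] at h1
      omega
    have h1 := hC l m n hnm
    rw [hm, hn] at h1
    have h2 := ih m hm
    have h3 : C l ≤ ∑ l, C l := Finset.single_le_sum (fun i _ => Nat.zero_le (C i)) (Finset.mem_univ l)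
    have h4 : (s + 1) ^ d ≤ (s + 1 + 1) ^ d := Nat.pow_le_pow_left (Nat.le_succ _) d
    have h5 : C l * ((s + 1) ^ d + (s + 1 + 1) ^ d) ≤ K * (s + 1 + 1) ^ d := by
      calc C l * ((s + 1) ^ d + (s + 1 + 1) ^ d) ≤ (∑ l, C l) * ((s + 1 + 1) ^ d + (s + 1 + 1) ^ d) :=
            Nat.mul_le_mul h3 (Nat.add_le_add_right h4 _)
        _ = K * (s + 1 + 1) ^ d := by simp only [K]; ring
    nlinarith [Nat.mul_le_mul_left (s * K) h4]

end Groth.Agent.L26.Growth
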