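import Groth.Agent.L26.Growth.Basic

/-!
The cohomology of a module supported in dimension `d` grows at most as the `d`-th power.
-/

set_option autoImplicit false
set_option backward.isDefEq.respectTransparency false
set_option linter.style.haveILetI false
set_option linter.unusedSectionVars false
universe u

open CategoryTheory CategoryTheory.Limits AlgebraicGeometry TopologicalSpace

noncomputable section

namespace Groth.Agent.L26.Growth

open Groth.L22.Inter Groth.L03.Euler Groth.L16 Groth.L22.Big
open Groth.L00.Tensor (tensorIso tensorAssoc tensorComm tensorUnitRight tensorUnitLeft tensorRightF)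

variable {k : Type u} [Field k]

/-- The pushforward along a closed immersion. -/
theorem Bdd.push {X Z : Scheme.{u}} [X.Over (Spec (CommRingCat.of k))] [IsProper (X ↘ Spec (CommRingCat.of k))]
    [Z.Over (Spec (CommRingCat.of k))] (i : Z ⟶ X) [IsClosedImmersion i]
    (hi : i ≫ X ↘ Spec (CommRingCat.of k) = Z ↘ Spec (CommRingCat.of k)) {r : ℕ} {L : Fin r → X.Modules}
    (hL : ∀ l, PicF.IsInvertible (L l)) {M : Z.Modules} (hM : Coh.IsQCoh M) {d : ℕ}
    (h : Bdd k (fun l => (Scheme.Modules.pullback i).obj (L l)) M d) : Bdd k L ((Coh.push i).obj M) d := fun j => by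
  haveI : X.IsSeparated := ⟨by rw [← terminal.comp_from (X ↘ Spec (CommRingCat.of k))]; infer_instance⟩
  obtain ⟨C, hC⟩ := h j
  refine ⟨C, fun n => ?_⟩
  obtain ⟨π⟩ := nonempty_pullback_tensorPows i L n
  exact ((finrank_push k i hi (isInvertible_tensorPows hL n) M hM j).trans
    (finrank_HH_of_iso (tensorIso (Iso.refl M) π) j)).trans_le (hC n)

/-- Bounds in the absolute dimension give bounds in the dimension of the support. -/
theorem bdd_of_support' {d : ℕ}
    (H : ∀ (Z : Scheme.{u}) [Z.Over (Spec (CommRingCat.of k))] [IsProper (Z ↘ Spec (CommRingCat.of k))]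
      (A : Z.Modules), CohB1.IsAmple A → ∀ (r : ℕ) (L : Fin r → Z.Modules), (∀ l, PicF.IsInvertible (L l)) →
        ∀ F : Z.Modules, Coh.IsCoh F → topologicalKrullDim Z ≤ d → Bdd k L F d)
    {X : Scheme.{u}} [X.Over (Spec (CommRingCat.of k))] [IsProper (X ↘ Spec (CommRingCat.of k))]
    {A : X.Modules} (hA : CohB1.IsAmple A) {r : ℕ} {L : Fin r → X.Modules} (hL : ∀ l, PicF.IsInvertible (L l))
    {F : X.Modules} (hF : Coh.IsCoh F) (hd : topologicalKrullDim (CohB1.support F) ≤ d) : Bdd k L F d := by
  haveI := Groth.L21.RR.isNoetherian_of_proper (X := X) k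
  haveI : X.IsSeparated := ⟨by rw [← terminal.comp_from (X ↘ Spec (CommRingCat.of k))]; infer_instance⟩
  obtain ⟨Z, i, M, hi, hM, ⟨e⟩, hdim⟩ := exists_push_support k hF
  haveI := hi
  letI : Z.Over (Spec (CommRingCat.of k)) := ⟨i ≫ X ↘ Spec (CommRingCat.of k)⟩
  haveI : IsProper (Z ↘ Spec (CommRingCat.of k)) :=
    inferInstanceAs (IsProper (i ≫ X ↘ Spec (CommRingCat.of k)))
  exact (Bdd.push i rfl hL hM.1 (H Z _ (Groth.L18.Ample.isAmple_pullback_of_isAffineHom i hA) r _
    (fun l => Groth.L18.Ample.isInvertible_pullback i (hL l)) M hM (hdim.trans_le hd))).of_iso e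

/-- The growth bound in the absolute dimension. -/
theorem bdd_of_dim : ∀ (d : ℕ) (X : Scheme.{u}) [X.Over (Spec (CommRingCat.of k))]
    [IsProper (X ↘ Spec (CommRingCat.of k))] (A : X.Modules), CohB1.IsAmple A → ∀ (r : ℕ) (L : Fin r → X.Modules),
      (∀ l, PicF.IsInvertible (L l)) → ∀ F : X.Modules, Coh.IsCoh F → topologicalKrullDim X ≤ d → Bdd k L F d := by
  intro d
  induction d with
  | zero =>
    intro X _ _ A hA r L hL F hF hd j
    haveI := Groth.L21.RR.isNoetherian_of_proper (X := X) k
    rcases Nat.eq_zero_or_pos j with rfl | hj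
    · obtain ⟨C, hC⟩ := exists_h0_le k hA hL hF (d := 0)
        ((topologicalKrullDim_set_mono (Set.subset_univ _)).trans
          ((IsHomeomorph.topologicalKrullDim_eq _ (Homeomorph.Set.univ X).isHomeomorph).trans_le hd))
      exact ⟨C, fun n => by simpa only [h0_def] using hC n⟩
    · refine ⟨0, fun n => ?_⟩
      haveI := Groth.L22.Inter.subsingleton_HH_of_dim hd (CohB1.tensorMod F (pows L n)) hj
      exact (Module.finrank_zero_of_subsingleton (R := k)).le.trans (Nat.zero_le _)
  | succ d ih =>
    intro X _ _ A hA r L hL F hF hdX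
    haveI := Groth.L21.RR.isNoetherian_of_proper (X := X) k
    haveI : X.IsSeparated := ⟨by rw [← terminal.comp_from (X ↘ Spec (CommRingCat.of k))]; infer_instance⟩
    refine Devissage.devissage_ideals (P := fun M => Bdd k L M (d + 1)) (fun M N e h => h.of_iso e.some)
      (fun M h => bdd_of_isZero L h _) (fun S hS h₁ h₂ h₃ b₁ b₃ => b₁.middle hL hS h₁ h₂ h₃ b₃)
      (fun W j hj hW I ι hι hI => ?_) hF
    haveI := hj; haveI := hW; haveI := hι; haveI := hI
    letI : W.Over (Spec (CommRingCat.of k)) := ⟨j ≫ X ↘ Spec (CommRingCat.of k)⟩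
    haveI : IsProper (W ↘ Spec (CommRingCat.of k)) :=
      inferInstanceAs (IsProper (j ≫ X ↘ Spec (CommRingCat.of k)))
    haveI := Groth.L21.RR.isNoetherian_of_proper (X := W) k
    let LW := fun l => (Scheme.Modules.pullback j).obj (L l)
    have hLW : ∀ l, PicF.IsInvertible (LW l) := fun l => Groth.L18.Ample.isInvertible_pullback j (hL l)
    have hAW : CohB1.IsAmple ((Scheme.Modules.pullback j).obj A) :=
      Groth.L18.Ample.isAmple_pullback_of_isAffineHom _ hA
    have hdW : topologicalKrullDim W ≤ (d + 1 : ℕ) := (j.isClosedEmbedding.topologicalKrullDim_le).trans hdX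
    refine Bdd.push j rfl hL hI ?_
    have hO : Coh.IsCoh (Coh.structureModule W) := CohClosedPush.isCoh_structure
    have hIc : Coh.IsCoh I := Groth.L16.Rees.RelVanish.isCoh_of_mono ι hO
    have small : ∀ Q : W.Modules, Coh.IsCoh Q → genericPoint W ∉ CohB1.support Q → Bdd k LW Q d :=
      fun Q hQ hgen => bdd_of_support' ih hAW hLW hQ
        (dim_le_of_generic_notMem (CohSupport.isClosed_support Q hQ.2) hgen hdW)
    by_cases hgen : genericPoint W ∈ CohB1.support I
    swap
    · exact (small I hIc hgen).mono (Nat.le_succ d)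
    have hS : (ShortComplex.mk ι (cokernel.π ι) (cokernel.condition ι)).ShortExact :=
      { exact := ShortComplex.exact_cokernel ι }
    have hQ : Coh.IsCoh (cokernel ι) := (CohKernel.isCoh_kernel_cokernel hIc hO ι).2
    refine Bdd.left hLW hS hIc hO hQ (bdd_structure hAW hLW small) ((small _ hQ ?_).mono (Nat.le_succ d))
    rw [← CohSupport.len_eq_zero_iff]
    have h := CohSupport.len_add hS (genericPoint W)
    change CohSupport.len (genericPoint W) (Coh.structureModule W) =
      CohSupport.len (genericPoint W) I + CohSupport.len (genericPoint W) (cokernel ι) at h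
    rw [Groth.L22.Nakai.len_structure'] at h
    have hne : CohSupport.len (genericPoint W) I ≠ 0 := fun h0 => (CohSupport.len_eq_zero_iff _ _).1 h0 hgen
    generalize CohSupport.len (genericPoint W) I = a at h hne
    generalize CohSupport.len (genericPoint W) (cokernel ι) = b at h
    cases a using ENat.recTopCoe <;> cases b using ENat.recTopCoe <;> simp_all
    norm_cast at h
    omega

/-- The growth bound in the dimension of the support. -/
theorem bdd_of_support {X : Scheme.{u}} [X.Over (Spec (CommRingCat.of k))] [IsProper (X ↘ Spec (CommRingCat.of k))]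
    {A : X.Modules} (hA : CohB1.IsAmple A) {r : ℕ} {L : Fin r → X.Modules} (hL : ∀ l, PicF.IsInvertible (L l))
    {F : X.Modules} (hF : Coh.IsCoh F) {d : ℕ} (hd : topologicalKrullDim (CohB1.support F) ≤ d) :
    Bdd k L F d :=
  bdd_of_support' (bdd_of_dim d) hA hL hF hd

end Groth.Agent.L26.Growth
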