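import Groth.Agent.L26.Growth.Main
import Groth.Agent.L29.Twist.RegularComb
import Mathlib.FieldTheory.IsAlgClosed.Basic

/-!
Cohomology of twists whose neighbours have vanishing cohomology.
-/

set_option autoImplicit false
set_option backward.isDefEq.respectTransparency false
set_option linter.style.haveILetI false
set_option linter.unusedSectionVars false
universe u

open CategoryTheory CategoryTheory.Limits AlgebraicGeometry TopologicalSpace

noncomputable section

namespace Groth.Agent.L26.Growth

open Groth.L22.Inter Groth.L03.Euler Groth.L16 Groth.L22.Big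
open Groth.L00.Tensor (tensorIso tensorAssoc tensorComm tensorUnitRight tensorUnitLeft tensorRightF tensorMap)

variable {k : Type u} [Field k] {X : Scheme.{u}} [X.Over (Spec (CommRingCat.of k))]
  [IsProper (X ↘ Spec (CommRingCat.of k))]

include k in
/-- The cokernel of a monomorphism into a twist has smaller support. -/
theorem dim_cokernel_le {F E : X.Modules} (hF : Coh.IsCoh F) (hE : PicF.IsInvertible E)
    (a : F ⟶ CohB1.tensorMod F E) [Mono a] {d : ℕ}
    (hd : topologicalKrullDim (CohB1.support F) ≤ ((d + 1 : ℕ) : WithBot ℕ∞)) :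
    Coh.IsCoh (cokernel a) ∧ topologicalKrullDim (CohB1.support (cokernel a)) ≤ (d : WithBot ℕ∞) := by
  haveI := Groth.L21.RR.isNoetherian_of_proper (X := X) k
  have hFE := isCoh_tensor hE hF
  have hQ : Coh.IsCoh (cokernel a) := (CohKernel.isCoh_kernel_cokernel hF hFE a).2
  refine ⟨hQ, ?_⟩
  have hclF : IsClosed (CohB1.support F) := CohSupport.isClosed_support F hF.2
  have hclQ : IsClosed (CohB1.support (cokernel a)) := CohSupport.isClosed_support _ hQ.2
  have hsub : CohB1.support (cokernel a) ⊆ CohB1.support F :=
    fun x hx => (support_tensor hE F).le (Groth.L21.Mod.support_epi (cokernel.π a) hx)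
  by_contra hlt
  have hlt' : ((d + 1 : ℕ) : WithBot ℕ∞) ≤ topologicalKrullDim (CohB1.support (cokernel a)) := by
    generalize topologicalKrullDim (CohB1.support (cokernel a)) = v at hlt ⊢
    induction v using WithBot.recBotCoe with
    | bot => exact absurd bot_le hlt
    | coe v =>
      induction v using ENat.recTopCoe with
      | top => exact WithBot.coe_le_coe.2 le_top
      | coe v => norm_cast at hlt ⊢; omega
  obtain ⟨y, hy, hyd⟩ := exists_point_dim_closure_ge hclQ hlt'
  have hmax : ∀ z ∈ CohB1.support F, z ⤳ y → z = y := by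
    intro z hz hzy
    by_contra hne
    have hsubcl : closure ({y} : Set X) ⊆ closure ({z} : Set X) :=
      closure_minimal (Set.singleton_subset_iff.2 (specializes_iff_mem_closure.1 hzy)) isClosed_closure
    have hne' : closure ({y} : Set X) ≠ closure ({z} : Set X) := fun h =>
      hne ((inseparable_iff_closure_eq.2 h.symm).eq)
    have h1 := topologicalKrullDim_add_one_le isClosed_closure isIrreducible_singleton.closure hsubcl hne'
    have h2 : topologicalKrullDim (closure ({z} : Set X)) ≤ ((d + 1 : ℕ) : WithBot ℕ∞) :=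
      (topologicalKrullDim_set_mono (closure_minimal (Set.singleton_subset_iff.2 hz) hclF)).trans hd
    have h3 : ((d + 1 : ℕ) : WithBot ℕ∞) + 1 ≤ ((d + 1 : ℕ) : WithBot ℕ∞) :=
      le_trans (add_le_add hyd le_rfl) (h1.trans h2)
    norm_cast at h3
    omega
  have hfin := CohSupport.len_ne_top hF hmax
  have h := CohSupport.len_add (S := ShortComplex.mk a (cokernel.π a) (cokernel.condition a))
    { exact := ShortComplex.exact_cokernel a } y
  change CohSupport.len y (CohB1.tensorMod F E) = CohSupport.len y F + CohSupport.len y (cokernel a) at h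
  rw [len_tensor hE] at h
  exact (CohSupport.len_eq_zero_iff _ _).1
    (ENat.add_right_injective_of_ne_top hfin (h.symm.trans (add_zero _).symm)) hy

variable [IsAlgClosed k]

include k in
/-- A regular section of a globally generated module. -/
theorem exists_regular_section {E : X.Modules} (hE : PicF.IsInvertible E) (hgg : Curv2.IsGloballyGenerated E)
    {F : X.Modules} (hF : Coh.IsCoh F) : ∃ a : F ⟶ CohB1.tensorMod F E, Mono a := by
  classical
  haveI := Groth.L21.RR.isNoetherian_of_proper (X := X) k
  choose σ hσ using Groth.L18.Ample.exists_genLocus_mem_of_gg hE hgg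
  obtain ⟨t, ht⟩ := isCompact_univ.elim_finite_subcover (fun x => (CohB1.genLocus E (σ x) : Set X))
    (fun x => (CohB1.genLocus E (σ x)).isOpen) (fun x _ => Set.mem_iUnion.2 ⟨x, hσ x⟩)
  let e := t.equivFin
  haveI : Infinite (IsLocalRing.ResidueField k) :=
    Infinite.of_injective _ (IsLocalRing.residue k).injective
  obtain ⟨τ, -, -, hτ⟩ := Groth.L29.Twist.exists_regular_combination (A := k) inferInstance
    ((Scheme.ΓSpecIso (CommRingCat.of k)).inv ≫ (X ↘ Spec (CommRingCat.of k)).appTop).hom E hE
    (fun i => σ (e.symm i).1) (fun x => by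
      obtain ⟨y, hy, hxy⟩ := Set.mem_iUnion₂.1 (ht (Set.mem_univ x))
      exact ⟨e ⟨y, hy⟩, by simpa using hxy⟩) ![F] (fun j => by fin_cases j; exact hF)
  refine ⟨mulSection F τ, ?_⟩
  haveI : Mono (((DCoh.tensorBi (X := X)).obj F).map τ) := hτ 0
  rw [mulSection, ← tensorBi_obj_map]
  infer_instance

/-- If the neighbours along a globally generated direction have no cohomology in a range of degrees,
then the cohomology grows slowly. -/
theorem peel {A : X.Modules} (hA : CohB1.IsAmple A) {r : ℕ} {L : Fin r → X.Modules}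
    (hL : ∀ l, PicF.IsInvertible (L l)) {E : X.Modules} (hE : PicF.IsInvertible E)
    (hgg : Curv2.IsGloballyGenerated E) (d : ℕ) : ∀ (s : ℕ) (F : X.Modules), Coh.IsCoh F →
    topologicalKrullDim (CohB1.support F) ≤ ((d + (s + 1) : ℕ) : WithBot ℕ∞) →
    ∀ i, ∃ C : ℕ, ∀ n : Fin r → ℕ,
      (∀ p, 1 ≤ p → p ≤ s + 1 → ∀ q, q ≤ i → i ≤ q + s →
        hd k (CohB1.tensorMod F (CohB1.tensorMod (pows L n) (CohB1.tensorPow E p))) q = 0) →
      hd k (CohB1.tensorMod F (pows L n)) i ≤ C * (∑ l, n l + 1) ^ d := by
  haveI := Groth.L21.RR.isNoetherian_of_proper (X := X) k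
  intro s
  induction s with
  | zero =>
    intro F hF hdim i
    obtain ⟨a, ha⟩ := exists_regular_section (k := k) hE hgg hF
    haveI := ha
    obtain ⟨hQ, hQd⟩ := dim_cokernel_le (k := k) hF hE a hdim
    let S := ShortComplex.mk a (cokernel.π a) (cokernel.condition a)
    have hS : S.ShortExact := { exact := ShortComplex.exact_cokernel a }
    have e : ∀ n, hd k (CohB1.tensorMod (CohB1.tensorMod F E) (pows L n)) i =
        hd k (CohB1.tensorMod F (CohB1.tensorMod (pows L n) (CohB1.tensorPow E 1))) i := fun n =>
      finrank_HH_of_iso (tensorAssoc F E (pows L n) ≪≫ tensorIso (Iso.refl F)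
        (tensorComm E (pows L n) ≪≫ tensorIso (Iso.refl _) (tensorUnitLeft E).symm)) i
    rcases i with _ | j
    · refine ⟨0, fun n hn => ?_⟩
      have hP : PicF.IsInvertible (pows L n) := isInvertible_tensorPows hL n
      have h := le_left_zero k (S := S.map (tensorRightF (pows L n))) (shortExact_tensor hP hS)
        (isCoh_tensor hP (isCoh_tensor hE hF))
      rw [Nat.zero_mul]
      exact h.trans ((e n).trans (hn 1 le_rfl le_rfl 0 le_rfl le_rfl)).le
    · obtain ⟨C, hC⟩ := bdd_of_support (k := k) hA hL hQ hQd j
      refine ⟨C, fun n hn => ?_⟩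
      have hP : PicF.IsInvertible (pows L n) := isInvertible_tensorPows hL n
      have h := le_left k (S := S.map (tensorRightF (pows L n))) (shortExact_tensor hP hS)
        (isCoh_tensor hP hF) (isCoh_tensor hP (isCoh_tensor hE hF)) (isCoh_tensor hP hQ) j
      have h0 := (e n).trans (hn 1 le_rfl le_rfl (j + 1) le_rfl le_rfl)
      exact h.trans ((Nat.add_le_add (hC n) h0.le).trans_eq (Nat.add_zero _))
  | succ s ih =>
    intro F hF hdim i
    obtain ⟨a, ha⟩ := exists_regular_section (k := k) hE hgg hF
    haveI := ha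
    obtain ⟨hQ, hQd⟩ := dim_cokernel_le (k := k) hF hE a (d := d + (s + 1)) hdim
    let S := ShortComplex.mk a (cokernel.π a) (cokernel.condition a)
    have hS : S.ShortExact := { exact := ShortComplex.exact_cokernel a }
    have e : ∀ n p q, hd k (CohB1.tensorMod (CohB1.tensorMod F E) (CohB1.tensorMod (pows L n) (CohB1.tensorPow E p))) q =
        hd k (CohB1.tensorMod F (CohB1.tensorMod (pows L n) (CohB1.tensorPow E (p + 1)))) q := fun n p q =>
      finrank_HH_of_iso (tensorAssoc F E _ ≪≫ tensorIso (Iso.refl F)
        (tensorComm E _ ≪≫ tensorAssoc (pows L n) (CohB1.tensorPow E p) E)) q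
    have e₀ : ∀ n q, hd k (CohB1.tensorMod (CohB1.tensorMod F E) (pows L n)) q =
        hd k (CohB1.tensorMod F (CohB1.tensorMod (pows L n) (CohB1.tensorPow E 1))) q := fun n q =>
      finrank_HH_of_iso (tensorAssoc F E (pows L n) ≪≫ tensorIso (Iso.refl F)
        (tensorComm E (pows L n) ≪≫ tensorIso (Iso.refl _) (tensorUnitLeft E).symm)) q
    rcases i with _ | j
    · refine ⟨0, fun n hn => ?_⟩
      have hP : PicF.IsInvertible (pows L n) := isInvertible_tensorPows hL n
      have h := le_left_zero k (S := S.map (tensorRightF (pows L n))) (shortExact_tensor hP hS)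
        (isCoh_tensor hP (isCoh_tensor hE hF))
      rw [Nat.zero_mul]
      exact h.trans ((e₀ n 0).trans (hn 1 le_rfl (by omega) 0 le_rfl (by omega))).le
    · obtain ⟨C, hC⟩ := ih (cokernel a) hQ hQd j
      refine ⟨C, fun n hn => ?_⟩
      have hP : PicF.IsInvertible (pows L n) := isInvertible_tensorPows hL n
      have h := le_left k (S := S.map (tensorRightF (pows L n))) (shortExact_tensor hP hS)
        (isCoh_tensor hP hF) (isCoh_tensor hP (isCoh_tensor hE hF)) (isCoh_tensor hP hQ) j
      have h0 := (e₀ n (j + 1)).trans (hn 1 le_rfl (by omega) (j + 1) le_rfl (by omega))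
      refine h.trans ((Nat.add_le_add (hC n fun p hp1 hp2 q hq1 hq2 => ?_) h0.le).trans_eq (Nat.add_zero _))
      have hT : PicF.IsInvertible (CohB1.tensorMod (pows L n) (CohB1.tensorPow E p)) :=
        Groth.L18.GenLoc.isInvertible_tensor hP (Groth.L18.Ample.isInvertible_tensorPow hE p)
      have h' := le_right k (S := S.map (tensorRightF (CohB1.tensorMod (pows L n) (CohB1.tensorPow E p))))
        (shortExact_tensor hT hS) (isCoh_tensor hT hF) (isCoh_tensor hT (isCoh_tensor hE hF)) (isCoh_tensor hT hQ) q
      have h1 := (e n p q).trans (hn (p + 1) (by omega) (by omega) q (by omega) (by omega))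
      have h2 := hn p hp1 (by omega) (q + 1) (by omega) (by omega)
      exact Nat.le_zero.1 (h'.trans (Nat.add_le_add h1.le h2.le))

end Groth.Agent.L26.Growth
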